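import Mathlib

/-!
# Automorphisms normalising a Sylow subgroup: the abstract part (S3830, O7, helper126)

`Y` an (algebraic) group with automorphisms `φ`, `σ = (conj c * φ) ^ N`, `c = z⁻¹ φ(z)`; `U` a subgroup invariant under `φ` and
`σ`, with normaliser `B`, Lang's theorem for `B` and `σ`. `K₀` a finite group inside the fixed points of `σ`, `x` an
automorphism of `K₀` with `x ^ i = conj c * φ` on `K₀`. If `K₀ ∩ U` is a Sylow `r`-subgroup of `K₀`, then `x` normalises a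
Sylow `r`-subgroup of `K₀`.
-/

set_option autoImplicit false

namespace Cfsg.Agent.H126.Exc

open scoped Pointwise

variable {Y K₀ : Type*} [Group Y] [Group K₀]

/-- an element normalising `ι(K₀)` induces an automorphism -/
theorem exists_aut {ι : K₀ →* Y} (hι : Function.Injective ι) {z : Y} (h1 : ∀ a, ∃ a', ι a' = z * ι a * z⁻¹)
    (h2 : ∀ a, ∃ a', ι a' = z⁻¹ * ι a * z) : ∃ β : MulAut K₀, ∀ a, ι (β a) = z * ι a * z⁻¹ := by
  choose b hb using h1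
  choose b' hb' using h2
  refine ⟨{ toFun := b, invFun := b', left_inv := fun a => hι ?_, right_inv := fun a => hι ?_,
            map_mul' := fun a a' => hι ?_ }, fun a => hb a⟩
  · rw [hb', hb]; group
  · rw [hb, hb']; group
  · rw [hb, map_mul, map_mul, hb, hb]; group

theorem fix_sylow_abs [Finite K₀] {r : ℕ} [Fact r.Prime] {ι : K₀ →* Y} (hι : Function.Injective ι) {U B : Subgroup Y}
    {φ σ : MulAut Y} {c z : Y} (hz : c = z⁻¹ * φ z) {N : ℕ} (hpow : (MulAut.conj c * φ) ^ N = σ)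
    (hφU : ∀ u, φ u ∈ U ↔ u ∈ U) (hσU : ∀ u, σ u ∈ U ↔ u ∈ U)
    (hN : ∀ y, (∀ u, u ∈ U ↔ y * u * y⁻¹ ∈ U) → y ∈ B) (hB : ∀ b ∈ B, ∀ u ∈ U, b * u * b⁻¹ ∈ U)
    (hL : ∀ b ∈ B, ∃ s ∈ B, b = s⁻¹ * σ s) (hnorm : ∀ y, σ y = y → ∀ a, ∃ a', ι a' = y * ι a * y⁻¹)
    (hUr : ∀ u ∈ U, ∃ j : ℕ, u ^ r ^ j = 1) (P : Sylow r K₀) (hP : ∀ a ∈ (P : Subgroup K₀), ι a ∈ U)
    {x : MulAut K₀} {i : ℕ} (hi : i.Coprime (orderOf x))
    (hxi : ∀ a, ι ((x ^ i) a) = (MulAut.conj c * φ) (ι a)) :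
    ∃ S : Sylow r K₀, ∀ u ∈ (S : Subgroup K₀), x u ∈ (S : Subgroup K₀) := by
  -- `K₀ ∩ U = P`
  have hV : IsPGroup r ↥(U.comap ι) := by
    rintro ⟨a, ha⟩
    obtain ⟨j, hj⟩ := hUr _ ha
    exact ⟨j, Subtype.ext (hι (by
      change ι (a ^ r ^ j) = ι 1
      rw [map_pow, hj, map_one]))⟩
  have hPV : U.comap ι = (P : Subgroup K₀) := P.3 hV hP
  have hPm : ∀ a, a ∈ (P : Subgroup K₀) ↔ ι a ∈ U := fun a => by rw [← hPV]; exact Subgroup.mem_comap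
  -- `σ₁` and `z⁻¹ U z`
  have h1 : ∀ y, z * (MulAut.conj c * φ) y * z⁻¹ = φ (z * y * z⁻¹) := by
    intro y
    rw [MulAut.mul_apply, MulAut.conj_apply, hz, map_mul, map_mul, map_inv]
    group
  have h2 : ∀ y, z * (MulAut.conj c * φ) y * z⁻¹ ∈ U ↔ z * y * z⁻¹ ∈ U := fun y => by rw [h1, hφU]
  have h3 : ∀ (n : ℕ) (y : Y), z * ((MulAut.conj c * φ) ^ n) y * z⁻¹ ∈ U ↔ z * y * z⁻¹ ∈ U := by
    intro n
    induction n with
    | zero => intro y; rw [pow_zero]; rfl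
    | succ n ih => intro y; rw [pow_succ', MulAut.mul_apply, h2, ih]
  have h4 : ∀ y, z * σ y * z⁻¹ ∈ U ↔ z * y * z⁻¹ ∈ U := fun y => by rw [← hpow]; exact h3 N y
  -- `z σ(z)⁻¹ ∈ B`
  have hg : z * (σ z)⁻¹ ∈ B := by
    apply hN
    intro u
    obtain ⟨v, rfl⟩ := σ.surjective u
    have h5 := h4 (z⁻¹ * v * z)
    have e1 : z * (z⁻¹ * v * z) * z⁻¹ = v := by group
    have e2 : z * σ (z⁻¹ * v * z) * z⁻¹ = z * (σ z)⁻¹ * σ v * (z * (σ z)⁻¹)⁻¹ := by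
      rw [map_mul, map_mul, map_inv]
      group
    rw [e1, e2] at h5
    rw [h5, hσU]
  obtain ⟨s, hs, hsg⟩ := hL _ hg
  obtain ⟨w, hw⟩ : ∃ w, w = s * z := ⟨_, rfl⟩
  have hσw : σ w = w := by
    have h6 : σ s = s * (z * (σ z)⁻¹) := by rw [hsg]; group
    rw [hw, map_mul, h6]
    group
  have hσw' : σ w⁻¹ = w⁻¹ := by rw [map_inv, hσw]
  have hwU : ∀ y, w * y * w⁻¹ ∈ U ↔ z * y * z⁻¹ ∈ U := by
    intro y
    have e : w * y * w⁻¹ = s * (z * y * z⁻¹) * s⁻¹ := by rw [hw]; group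
    rw [e]
    refine ⟨fun h => ?_, fun h => hB s hs _ h⟩
    have h7 := hB s⁻¹ (inv_mem hs) _ h
    have e' : s⁻¹ * (s * (z * y * z⁻¹) * s⁻¹) * s⁻¹⁻¹ = z * y * z⁻¹ := by group
    rwa [e'] at h7
  obtain ⟨β, hβ⟩ := exists_aut hι (hnorm w hσw) (fun a => by
    obtain ⟨a', ha'⟩ := hnorm w⁻¹ hσw' a
    exact ⟨a', by rw [ha', inv_inv]⟩)
  refine ⟨β⁻¹ • P, ?_⟩
  have hS : ∀ a, a ∈ ((β⁻¹ • P : Sylow r K₀) : Subgroup K₀) ↔ z * ι a * z⁻¹ ∈ U := by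
    intro a
    rw [Sylow.pointwise_smul_def, Subgroup.mem_inv_pointwise_smul_iff, MulAut.smul_def, hPm, hβ, hwU]
  have hSi : ∀ a, (x ^ i) a ∈ ((β⁻¹ • P : Sylow r K₀) : Subgroup K₀) ↔ a ∈ ((β⁻¹ • P : Sylow r K₀) : Subgroup K₀) := by
    intro a
    rw [hS, hS, hxi, h2]
  obtain ⟨m, hm⟩ := exists_pow_eq_self_of_coprime hi
  have hSm : ∀ (n : ℕ) (a : K₀), ((x ^ i) ^ n) a ∈ ((β⁻¹ • P : Sylow r K₀) : Subgroup K₀) ↔
      a ∈ ((β⁻¹ • P : Sylow r K₀) : Subgroup K₀) := by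
    intro n
    induction n with
    | zero => intro a; rw [pow_zero]; rfl
    | succ n ih => intro a; rw [pow_succ', MulAut.mul_apply, hSi, ih]
  intro u hu
  have h8 := (hSm m u).2 hu
  rwa [hm] at h8

end Cfsg.Agent.H126.Exc
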