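import Cfsg.Agent.H126.Exc.Abs
import Cfsg.Agent.H795.LangT
import Cfsg.Agent.H115.ChevPar
import Cfsg.Agent.S1049
import Cfsg.Agent.BpExc.Emb

/-!
# The Borel subgroup of `D.group k`, `k` algebraically closed (S3830, O7, helper126)

* `upos` : the subgroup generated by the positive root groups is `posUnipotent`;
* `mem_borel_of_norm` : its normaliser is the Borel subgroup;
* `upos_pow` : its elements have order a power of `r`;
* `lang_borel` : Lang's theorem for the Borel subgroup and a frame automorphism preserving the positive roots;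
* `fix_sylow` : the theorem for `x` of field type.
-/

set_option autoImplicit false
set_option linter.unusedSectionVars false

namespace Cfsg.Agent.H126.Exc

open CoxeterSystem Cfsg Cfsg.Lie Cfsg.Lie.ChevalleyDatum
open Cfsg.Agent.ChevalleyStructure Cfsg.Agent.ChevalleyStructure.Elts Cfsg.Agent.ChevalleyStructure.CoxeterGeom
  Cfsg.Agent.ChevalleyStructure.CoxeterGeomTypes Cfsg.Agent.ChevalleyStructure.NPerm
open Cfsg.Agent.Tits.Roots Cfsg.Agent.Tits.Core Cfsg.Agent.Nodes Cfsg.Agent.Nodes.Reps Cfsg.Agent.Nodes.BNOf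
  Cfsg.Agent.Nodes.RGDChev Cfsg.Agent.Nodes.Bruhat
open Cfsg.Agent.KFacts.RgdField Cfsg.Agent.KFacts.RgdChevCoord Cfsg.Agent.BpExc.TorCent Cfsg.Agent.BpExc.TorChev
open Cfsg.Agent.GpExc.Field Cfsg.Agent.BpExc.Tow Cfsg.Agent.BpExc.TowChev Cfsg.Agent.BpExc.Fr
  Cfsg.Agent.BpExc.LangFr Cfsg.Agent.BpExc Cfsg.Agent.H129.TorusChar Cfsg.Agent.H129.TorusMain Cfsg.Agent.H123.ExcZ

universe u v

variable {D : ChevalleyDatum} {l : ℕ} {M : CoxeterMatrix (Fin l)} (hp : IsType D l M) {k : Type u} [Field k]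

include hp in
theorem upos : RGD.Sup (XX D l k) (RGD.Pos M.toCoxeterSystem hp.isCartan) = (D.posUnipotent k).subgroupOf (D.group k) :=
  H115.sup_pos_eq hp M.toCoxeterSystem

theorem unipotentRadical_empty (hD : InList D) : D.unipotentRadical k ∅ = D.posUnipotent k := by
  have G := RootComb.good_of_mem hD
  apply le_antisymm
  · refine (Subgroup.closure_le _).2 ?_
    rintro x ⟨r, t, hr, -, hx⟩
    exact Subgroup.subset_closure ⟨r, t, hr, hx⟩
  · rw [posUnipotent_le_iff hD]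
    intro r hr t
    refine Subgroup.subset_closure ⟨r, t, hr, ?_, coe_xG hD r t⟩
    rintro ⟨-, h1⟩
    obtain ⟨j, hj, h2⟩ := G.co_ne_zero hr.1
    exact h2 (h1 j hj (Set.notMem_empty j))

theorem parabolic_empty : D.parabolicSubgroup k ∅ = D.borelSubgroup k := by
  have : {g : GL D.Idx k | ∃ j ∈ (∅ : Set ℕ), j < D.rank ∧ (g : Matrix D.Idx D.Idx k) = D.nMat k (D.simple j) 1} = ∅ := by
    ext g
    constructor
    · rintro ⟨j, hj, -⟩
      exact hj
    · intro h
      exact absurd h (Set.notMem_empty g)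
  show D.borelSubgroup k ⊔ Subgroup.closure _ = _
  rw [this, Subgroup.closure_empty, sup_bot_eq]

/-- An element of `G` normalising `U` lies in `B`. -/
theorem mem_borel_of_normalizer (hD : InList D) {m : GL D.Idx k} (hm : m ∈ D.group k)
    (h : m ∈ Subgroup.normalizer (D.posUnipotent k : Set (GL D.Idx k))) : m ∈ D.borelSubgroup k := by
  rw [← parabolic_empty, ← Cfsg.Agent.S1049.result (F := k) D hD ∅ (fun j hj => absurd hj (Set.notMem_empty j)),
    unipotentRadical_empty hD]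
  exact ⟨h, hm⟩

/-- the Borel subgroup of `D.group k` -/
abbrev BB (D : ChevalleyDatum) (k : Type u) [Field k] : Subgroup ↥(D.group k) := (D.borelSubgroup k).subgroupOf (D.group k)

/-- the maximal unipotent subgroup of `D.group k` -/
abbrev UU (D : ChevalleyDatum) (k : Type u) [Field k] : Subgroup ↥(D.group k) := (D.posUnipotent k).subgroupOf (D.group k)

include hp in
theorem mem_upos {u : ↥(D.group k)} : u ∈ RGD.Sup (XX D l k) (RGD.Pos M.toCoxeterSystem hp.isCartan) ↔ u ∈ UU D k := by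
  rw [upos hp]

include hp in
theorem mem_borel_of_norm {y : ↥(D.group k)} (h : ∀ u, u ∈ UU D k ↔ y * u * y⁻¹ ∈ UU D k) : y ∈ BB D k := by
  refine mem_borel_of_normalizer hp.inList y.2 (Subgroup.mem_normalizer_iff.2 fun g => ?_)
  constructor
  · intro hg
    exact (h ⟨g, H115.pos_le_group hp hg⟩).1 hg
  · intro hg
    have hg2 : (y : GL D.Idx k) * g * (y : GL D.Idx k)⁻¹ ∈ D.posUnipotent k := hg
    have hg' : g ∈ D.group k := by
      have h1 := mul_mem (mul_mem (inv_mem y.2) (H115.pos_le_group hp hg2)) y.2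
      have e : ((y : GL D.Idx k))⁻¹ * ((y : GL D.Idx k) * g * (y : GL D.Idx k)⁻¹) * (y : GL D.Idx k) = g := by group
      rwa [e] at h1
    exact (h ⟨g, hg'⟩).2 hg2

include hp in
theorem torus_norm {t u : ↥(D.group k)} (ht : t ∈ TT D k) (hu : u ∈ UU D k) : t * u * t⁻¹ ∈ UU D k := by
  have h1 := (Cfsg.Agent.S1036.result (F := k) D hp.inList).1 ht
  exact (Subgroup.mem_normalizer_iff.1 h1 _).1 hu

include hp in
theorem borel_form {y : ↥(D.group k)} (hy : y ∈ BB D k) : ∃ u ∈ UU D k, ∃ t ∈ TT D k, y = u * t := by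
  obtain ⟨u, hu, t, ht, e⟩ := (FixNorm.mem_borel_iff hp.inList).1 hy
  exact ⟨⟨u, H115.pos_le_group hp hu⟩, hu, ⟨t, H115.diagonal_le_group hp ht⟩, ht, Subtype.ext e⟩

include hp in
theorem borel_norm {b u : ↥(D.group k)} (hb : b ∈ BB D k) (hu : u ∈ UU D k) : b * u * b⁻¹ ∈ UU D k := by
  obtain ⟨v, hv, t, ht, rfl⟩ := borel_form hp hb
  have e : v * t * u * (v * t)⁻¹ = v * (t * u * t⁻¹) * v⁻¹ := by group
  rw [e]
  exact mul_mem (mul_mem hv (torus_norm hp ht hu)) (inv_mem hv)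

include hp in
/-- the elements of `U` have order a power of `r` -/
theorem upos_pow (hk : LocFin k) (r : ℕ) [Fact r.Prime] [CharP k r] {u : ↥(D.group k)} (hu : u ∈ UU D k) :
    ∃ j : ℕ, u ^ r ^ j = 1 := by
  have H := tow hp M.toCoxeterSystem hk r
  rw [← mem_upos hp, ← XL_eq hp hk, H.mem_Sup] at hu
  obtain ⟨j, hj⟩ := hu
  have := finite_W hp M.toCoxeterSystem
  obtain ⟨n, hn⟩ := (H.rgd j).isPGroup_Upos ⟨u, hj⟩
  exact ⟨n, congrArg Subtype.val hn⟩

section

variable {r e : ℕ} [Fact r.Prime] [CharP k r] {σ : MulAut ↥(D.group k)} {g : (Fin l → ℤ) ≃+ (Fin l → ℤ)}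

/-- the lattice automorphism preserves the positive vectors -/
def PosG (g : (Fin l → ℤ) ≃+ (Fin l → ℤ)) : Prop := ∀ a, 0 ≤ g a ↔ 0 ≤ a

include hp in
theorem fr_upos (F : Fr M.toCoxeterSystem hp.isCartan (TT D k) (XX D l k) σ g) (hg : PosG g) (u : ↥(D.group k)) :
    σ u ∈ UU D k ↔ u ∈ UU D k := by
  rw [← mem_upos hp, ← mem_upos hp]
  exact F.mem_Sup (S := RGD.Pos M.toCoxeterSystem hp.isCartan) (S' := RGD.Pos M.toCoxeterSystem hp.isCartan)
    (fun a ha => ha.1) (fun a => ⟨fun ha => ⟨(F.root a).1 ha.1, (hg a).1 ha.2⟩,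
    fun ha => ⟨(F.root a).2 ha.1, (hg a).2 ha.2⟩⟩) u

include hp in
/-- **Lang's theorem for the Borel subgroup.** -/
theorem lang_borel [IsAlgClosed k] {d : ℕ} {B : Fin l → Fin l → ℤ} (hB : InvC D l d B) (hd : d ≠ 0) (he : 0 < e)
    (hσ : IsFrob r e σ) (F : Fr M.toCoxeterSystem hp.isCartan (TT D k) (XX D l k) σ g) (hg : PosG g)
    {b : ↥(D.group k)} (hb : b ∈ BB D k) : ∃ s ∈ BB D k, b = s⁻¹ * σ s := by
  have hT : TT D k ≤ BB D k := fun t ht => Subgroup.mem_subgroupOf.2 (Subgroup.mem_sup_right ht)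
  have hU : UU D k ≤ BB D k := fun t ht => Subgroup.mem_subgroupOf.2 (Subgroup.mem_sup_left ht)
  obtain ⟨u, hu, t, ht, rfl⟩ := borel_form hp hb
  obtain ⟨s, hs, rfl⟩ := H795.LangT.lang_torus hp hB hd he hσ F ht
  -- `s u s⁻¹`
  have h1 := torus_norm hp hs hu
  rw [← mem_upos hp] at h1
  obtain ⟨v, hv, h2⟩ := lang_fr hp M.toCoxeterSystem he hσ F (S := RGD.Pos M.toCoxeterSystem hp.isCartan)
    (fun a ha => ha.1) (fun a ha => ⟨(F.root a).2 ha.1, (hg a).2 ha.2⟩) h1
  rw [mem_upos hp] at hv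
  refine ⟨v * s, mul_mem (hU hv) (hT hs), ?_⟩
  rw [map_mul]
  have h3 : u = s⁻¹ * (s * u * s⁻¹) * s := by group
  rw [h3, h2]
  group

end

/-! ### the theorem for field type -/

/-- `G` embedded as a normal subgroup of `(D.group k)^σ`, the Sylow `r`-subgroups unipotent. -/
structure Emb {G : Type v} [Group G] (hp : IsType D l M) (r e : ℕ) [Fact r.Prime] [CharP k r]
    (f : G →* ↥(D.group k)) (σ : MulAut ↥(D.group k)) (g : (Fin l → ℤ) ≃+ (Fin l → ℤ)) : Prop where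
  inj : Function.Injective f
  e_pos : 0 < e
  frob : IsFrob r e σ
  fr : Fr M.toCoxeterSystem hp.isCartan (TT D k) (XX D l k) σ g
  pos : PosG g
  norm : ∀ y, σ y = y → ∀ x, ∃ x', f x' = y * f x * y⁻¹
  syl : ∃ P : Sylow r G, ∀ a ∈ (P : Subgroup G), f a ∈ UU D k

/-- **Automorphisms of field type normalise a Sylow `r`-subgroup.** -/
theorem Emb.fix_sylow [IsAlgClosed k] (hk : LocFin k) {G : Type v} [Group G] [Finite G] {r e : ℕ} [Fact r.Prime]
    [CharP k r] {f : G →* ↥(D.group k)} {σ : MulAut ↥(D.group k)} {g : (Fin l → ℤ) ≃+ (Fin l → ℤ)}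
    (E : Emb hp r e f σ g) {d : ℕ} {B : Fin l → Fin l → ℤ} (hB : InvC D l d B) (hd : d ≠ 0) {x : MulAut G} {i N : ℕ}
    {c : ↥(D.group k)} {φ : MulAut ↥(D.group k)} {g' : (Fin l → ℤ) ≃+ (Fin l → ℤ)} {e' : ℕ}
    (hi : i.Coprime (orderOf x)) (he' : 0 < e') (hφ : IsFrob r e' φ)
    (Fφ : Fr M.toCoxeterSystem hp.isCartan (TT D k) (XX D l k) φ g') (hg' : PosG g')
    (hpow : (MulAut.conj c * φ) ^ N = σ) (hxi : ∀ a, f ((x ^ i) a) = (MulAut.conj c * φ) (f a)) :
    ∃ S : Sylow r G, ∀ u ∈ (S : Subgroup G), x u ∈ (S : Subgroup G) := by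
  obtain ⟨z, hz⟩ := lang_all hp M.toCoxeterSystem he' hφ Fφ 1 c
  rw [map_one, one_mul] at hz
  obtain ⟨P, hP⟩ := E.syl
  exact fix_sylow_abs E.inj (U := UU D k) (B := BB D k) hz hpow (fr_upos hp Fφ hg') (fr_upos hp E.fr E.pos)
    (fun y hy => mem_borel_of_norm hp hy) (fun b hb u hu => borel_norm hp hb hu)
    (fun b hb => lang_borel hp hB hd E.e_pos E.frob E.fr E.pos hb) E.norm (fun u hu => upos_pow hp hk r hu) P hP hi hxi

end Cfsg.Agent.H126.Exc
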